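import Groth.Agent.HopfFF.SmoothCrit

/-!
# Cotangent space at a rational point: Jacobian rank
-/

set_option autoImplicit false
universe u

open MvPolynomial

noncomputable section

namespace Groth.Agent.JacRat

variable {k : Type u} [Field k] {n : ℕ} (a : Fin n → k)

def grad : MvPolynomial (Fin n) k →ₗ[k] (Fin n → k) :=
  LinearMap.pi fun j => (aeval a).toLinearMap.comp (pderiv j).toLinearMap

theorem grad_apply (p : MvPolynomial (Fin n) k) (j : Fin n) : grad a p j = eval a (pderiv j p) := by
  simp [grad]

def lin : (Fin n → k) →ₗ[k] MvPolynomial (Fin n) k :=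
  Fintype.linearCombination k fun j => X j - C (a j)

theorem lin_apply (v : Fin n → k) : lin a v = ∑ j, C (v j) * (X j - C (a j)) := by
  simp [lin, Fintype.linearCombination_apply, smul_eq_C_mul]

theorem grad_lin (v : Fin n → k) : grad a (lin a v) = v := by
  funext j
  simp [grad_apply, lin_apply, map_sum, Pi.single_apply, Finset.sum_ite_eq', mul_comm]

theorem eval_lin (v : Fin n → k) : eval a (lin a v) = 0 := by
  simp [lin_apply, map_sum]

theorem grad_mul (p q : MvPolynomial (Fin n) k) :
    grad a (p * q) = eval a p • grad a q + eval a q • grad a p := by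
  funext j
  simp [grad_apply, Derivation.leibniz]

theorem taylor (p : MvPolynomial (Fin n) k) :
    p - C (eval a p) - lin a (grad a p) ∈ RingHom.ker (eval a) ^ 2 := by
  induction p using MvPolynomial.induction_on with
  | C c =>
    have h : grad a (C c) = 0 := by funext j; simp [grad_apply]
    simp [h]
  | add p q hp hq =>
    have e : p + q - C (eval a (p + q)) - lin a (grad a (p + q)) =
        (p - C (eval a p) - lin a (grad a p)) + (q - C (eval a q) - lin a (grad a q)) := by
      rw [map_add, map_add, map_add, map_add]; ring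
    rw [e]
    exact add_mem hp hq
  | mul_X p i hp =>
    have hX : grad a (X i) = Pi.single i 1 := by
      funext j; simp [grad_apply, Pi.single_apply, eq_comm]
    have hl : lin a (Pi.single i 1) = X i - C (a i) := by simp [lin]
    have e : p * X i - C (eval a (p * X i)) - lin a (grad a (p * X i)) =
        (p - C (eval a p) - lin a (grad a p)) * X i + lin a (grad a p) * (X i - C (a i)) := by
      rw [grad_mul, map_add, map_smul, map_smul, hX, hl, map_mul, eval_X, map_mul, smul_eq_C_mul, smul_eq_C_mul]
      ring
    rw [e]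
    refine add_mem (Ideal.mul_mem_right _ _ hp) ?_
    rw [pow_two]
    exact Ideal.mul_mem_mul (RingHom.mem_ker.2 (eval_lin a _)) (RingHom.mem_ker.2 (by simp))

theorem grad_eq_zero_of_mem_sq {p : MvPolynomial (Fin n) k} (hp : p ∈ RingHom.ker (eval a) ^ 2) :
    grad a p = 0 := by
  rw [pow_two] at hp
  induction hp using Submodule.mul_induction_on' with
  | mem_mul_mem x hx y hy => rw [grad_mul, RingHom.mem_ker.1 hx, RingHom.mem_ker.1 hy, zero_smul, zero_smul, add_zero]
  | add x _ y _ hx hy => rw [map_add, hx, hy, add_zero]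

theorem finrank_cotangent_add_rank {r : ℕ} (F : Fin r → MvPolynomial (Fin n) k)
    (m : Ideal (MvPolynomial (Fin n) k ⧸ Ideal.span (Set.range F)))
    (hm : m.comap (Ideal.Quotient.mk (Ideal.span (Set.range F))) = RingHom.ker (eval a)) :
    Module.finrank k m.Cotangent + (Matrix.of fun i j => eval a (pderiv j (F i))).rank = n := by
  classical
  let M := RingHom.ker (eval a)
  let I := Ideal.span (Set.range F)
  let q := Ideal.Quotient.mk I
  have hmM : m = M.map q := by
    show m = Ideal.map q (RingHom.ker (eval a))
    rw [← hm, Ideal.map_comap_of_surjective q Ideal.Quotient.mk_surjective]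
  have hm2 : m ^ 2 = (M ^ 2).map q := by rw [hmM, Ideal.map_pow]
  have hF : ∀ i, F i ∈ M := fun i => by
    show F i ∈ RingHom.ker (eval a)
    rw [← hm, Ideal.mem_comap, Ideal.Quotient.eq_zero_iff_mem.2 (Ideal.subset_span (Set.mem_range_self i) : F i ∈ Ideal.span (Set.range F))]
    exact zero_mem _
  have hmem : ∀ {p}, p ∈ M → q p ∈ m := fun hp => hmM ▸ Ideal.mem_map_of_mem _ hp
  let Φ : (Fin n → k) →ₗ[k] m.Cotangent :=
    { toFun := fun v => m.toCotangent ⟨q (lin a v), hmem (RingHom.mem_ker.2 (eval_lin a v))⟩
      map_add' := fun v w => by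
        rw [← map_add]
        congr 1
        exact Subtype.ext (by simp)
      map_smul' := fun c v => by
        rw [RingHom.id_apply, ← algebraMap_smul (MvPolynomial (Fin n) k ⧸ Ideal.span (Set.range F)) c (m.toCotangent _), ← map_smul]
        congr 1
        refine Subtype.ext ?_
        show q (lin a (c • v)) = algebraMap k _ c * q (lin a v)
        rw [map_smul, Algebra.smul_def, map_mul]
        rfl }
  have hΦ : Function.Surjective Φ := fun y => by
    obtain ⟨⟨x, hx⟩, rfl⟩ := m.toCotangent_surjective y
    obtain ⟨p, rfl⟩ := Ideal.Quotient.mk_surjective x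
    have hp : p ∈ M := by
      show p ∈ RingHom.ker (eval a)
      rw [← hm]; exact hx
    refine ⟨grad a p, (Ideal.toCotangent_eq m).2 ?_⟩
    have h := Ideal.mem_map_of_mem q (taylor a p)
    rw [RingHom.mem_ker.1 hp, map_zero, sub_zero] at h
    rw [hm2, show (q (lin a (grad a p)) - q p) = -(q (p - lin a (grad a p))) by rw [map_sub]; ring]
    exact neg_mem h
  have hker : LinearMap.ker Φ = Submodule.span k (Set.range fun i => grad a (F i)) := by
    refine le_antisymm (fun v hv => ?_) (Submodule.span_le.2 ?_)
    · have h : q (lin a v) ∈ (M ^ 2).map q := hm2 ▸ (Ideal.toCotangent_eq_zero m _).1 hv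
      rw [← Ideal.mem_comap, Ideal.comap_map_of_surjective' q Ideal.Quotient.mk_surjective, Ideal.mk_ker,
        Submodule.mem_sup] at h
      obtain ⟨p, hp, s, hs, hps⟩ := h
      rw [← grad_lin a v, ← hps, map_add, grad_eq_zero_of_mem_sq a hp, zero_add]
      obtain ⟨c, rfl⟩ := Ideal.mem_span_range_iff_exists_fun.1 hs
      rw [map_sum]
      refine Submodule.sum_mem _ fun i _ => ?_
      rw [grad_mul, RingHom.mem_ker.1 (hF i), zero_smul, add_zero]
      exact Submodule.smul_mem _ _ (Submodule.subset_span ⟨i, rfl⟩)
    · rintro _ ⟨i, rfl⟩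
      refine (Ideal.toCotangent_eq_zero m _).2 ?_
      have h := Ideal.mem_map_of_mem q (taylor a (F i))
      rw [RingHom.mem_ker.1 (hF i), map_zero, sub_zero, map_sub,
        Ideal.Quotient.eq_zero_iff_mem.2 (Ideal.subset_span (Set.mem_range_self i) : F i ∈ Ideal.span (Set.range F)), zero_sub, neg_mem_iff, ← hm2] at h
      exact h
  have hrow : (Matrix.of fun i j => eval a (pderiv j (F i))).rank =
      Module.finrank k (Submodule.span k (Set.range fun i => grad a (F i))) := by
    rw [Matrix.rank_eq_finrank_span_row]
    congr!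
  have h := LinearMap.finrank_range_add_finrank_ker Φ
  rw [LinearMap.range_eq_top.2 hΦ, finrank_top, hker, ← hrow, Module.finrank_fin_fun] at h
  exact h

end Groth.Agent.JacRat
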